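import Groth.Agent.Et18.SheafPullSet
import Mathlib.Topology.Sheaves.LocallySurjective
import Mathlib.Topology.Sheaves.SheafCondition.UniqueGluing

/-!
# Sheaves of sets and embeddings
-/

set_option autoImplicit false

universe u

open CategoryTheory CategoryTheory.Limits Opposite TopologicalSpace

namespace Groth.Agent.ShSp

open Groth.Agent.Et18.SheafPullSet

variable {Z X : TopCat.{u}} (i : Z ⟶ X)

/-- Direct image of sheaves of sets. -/
noncomputable abbrev pushS : Z.Sheaf (Type u) ⥤ X.Sheaf (Type u) := TopCat.Sheaf.pushforward (Type u) i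

/-- Inverse image of sheaves of sets. -/
noncomputable abbrev pullS : X.Sheaf (Type u) ⥤ Z.Sheaf (Type u) := TopCat.Sheaf.pullback (Type u) i

/-- The adjunction. -/
noncomputable abbrev adj : pullS i ⊣ pushS i := TopCat.Sheaf.pullbackPushforwardAdjunction (Type u) i

lemma counit_unit_app (F : Z.Sheaf (Type u)) (U : Opens X) (t : ((pushS i).obj F).obj.obj (op U)) :
    ((adj i).counit.app F).hom.app (op ((Opens.map i).obj U)) ((unit i ((pushS i).obj F)).hom.app (op U) t) = t :=
  ConcreteCategory.congr_hom
    (NatTrans.congr_app (congrArg InducedCategory.Hom.hom ((adj i).right_triangle_components F)) (op U)) t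

lemma stalk_counit_germMap (F : Z.Sheaf (Type u)) (z : Z) (s : stk ((pushS i).obj F) (i z)) :
    (TopCat.Presheaf.stalkFunctor (Type u) z).map ((adj i).counit.app F).hom (germMap i ((pushS i).obj F) z s) =
      TopCat.Presheaf.stalkPushforward (Type u) i F.obj z s := by
  obtain ⟨U, hU, t, rfl⟩ := TopCat.Presheaf.exists_germ_eq ((pushS i).obj F).obj s
  refine (congrArg _ (germMap_germ i ((pushS i).obj F) hU t)).trans ?_
  refine (TopCat.Presheaf.stalkFunctor_map_germ_apply ((Opens.map i).obj U) z hU _ _).trans ?_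
  rw [counit_unit_app]
  exact (ConcreteCategory.congr_hom (TopCat.Presheaf.stalkPushforward_germ (Type u) i F.obj U z hU) t).symm

/-- The counit is invertible for an inducing map. -/
theorem isIso_counit (hi : Topology.IsInducing i) (F : Z.Sheaf (Type u)) :
    IsIso ((adj i).counit.app F) := by
  have : ∀ z : Z, IsIso ((TopCat.Presheaf.stalkFunctor (Type u) z).map ((adj i).counit.app F).hom) := fun z => by
    rw [isIso_iff_bijective]
    have h := TopCat.Presheaf.stalkPushforward.stalkPushforward_iso_of_isInducing (C := Type u) hi F.obj z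
    have hb := (isIso_iff_bijective _).1 h
    have hg := bijective_germMap i ((pushS i).obj F) z
    have he : (fun s => (TopCat.Presheaf.stalkFunctor (Type u) z).map ((adj i).counit.app F).hom
        (germMap i ((pushS i).obj F) z s)) = fun s => TopCat.Presheaf.stalkPushforward (Type u) i F.obj z s :=
      funext (stalk_counit_germMap i F z)
    exact (Function.Bijective.of_comp_iff _ hg).1 (show Function.Bijective
      (fun s => (TopCat.Presheaf.stalkFunctor (Type u) z).map ((adj i).counit.app F).hom
        (germMap i ((pushS i).obj F) z s)) by rw [he]; exact hb)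
  exact TopCat.Presheaf.isIso_of_stalkFunctor_map_iso _

theorem fullyFaithful (hi : Topology.IsInducing i) : (pushS i).Full ∧ (pushS i).Faithful := by
  have := isIso_counit i hi
  have : IsIso (adj i).counit := NatIso.isIso_of_isIso_app _
  exact ⟨(adj i).fullyFaithfulROfIsIsoCounit.full, (adj i).fullyFaithfulROfIsIsoCounit.faithful⟩

lemma subsingleton_sections_bot {T : TopCat.{u}} (F : T.Sheaf (Type u)) (U : Opens T) (hU : ∀ x ∈ U, False) :
    Nonempty (Unique (F.obj.obj (op U))) := by
  obtain rfl : U = ⊥ := eq_bot_iff.2 fun x hx => (hU x hx).elim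
  exact ⟨(Types.isTerminalEquivUnique _) F.isTerminalOfEmpty⟩

/-- The stalk of a pushforward outside a closed image is a point. -/
theorem unique_stalk_push (hi : IsClosed (Set.range i)) (F : Z.Sheaf (Type u)) (x : X) (hx : x ∉ Set.range i) :
    Nonempty (Unique (stk ((pushS i).obj F) x)) := by
  let V : Opens X := ⟨(Set.range i)ᶜ, hi.isOpen_compl⟩
  have hempty : ∀ W : Opens X, W ≤ V → Nonempty (Unique (((pushS i).obj F).obj.obj (op W))) := fun W hW =>
    subsingleton_sections_bot F ((Opens.map i).obj W) fun z hz => hW hz ⟨z, rfl⟩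
  obtain ⟨hV⟩ := hempty V le_rfl
  refine ⟨⟨⟨TopCat.Presheaf.germ ((pushS i).obj F).obj V x hx hV.default⟩, fun s => ?_⟩⟩
  obtain ⟨U, hU, t, rfl⟩ := TopCat.Presheaf.exists_germ_eq ((pushS i).obj F).obj s
  obtain ⟨hW⟩ := hempty (U ⊓ V) inf_le_right
  refine TopCat.Presheaf.germ_ext ((pushS i).obj F).obj (U ⊓ V) ⟨hU, hx⟩ (homOfLE inf_le_left) (homOfLE inf_le_right) ?_
  exact (hW.uniq _).trans (hW.uniq _).symm

/-- The unit is invertible on sheaves supported on a closed subspace. -/
theorem isIso_unit (hi : Topology.IsClosedEmbedding i) (G : X.Sheaf (Type u))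
    (hG : ∀ x : X, x ∉ Set.range i → Nonempty (Unique (stk G x))) : IsIso ((adj i).unit.app G) := by
  have : ∀ x : X, IsIso ((TopCat.Presheaf.stalkFunctor (Type u) x).map ((adj i).unit.app G).hom) := fun x => by
    rw [isIso_iff_bijective]
    by_cases hx : x ∈ Set.range i
    · obtain ⟨z, rfl⟩ := hx
      have h := TopCat.Presheaf.stalkPushforward.stalkPushforward_iso_of_isInducing (C := Type u) hi.isInducing
        ((pullS i).obj G).obj z
      exact (Function.Bijective.of_comp_iff' ((isIso_iff_bijective _).1 h) _).1 (bijective_germMap i G z)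
    · obtain ⟨u1⟩ := hG x hx
      obtain ⟨u2⟩ := unique_stalk_push i hi.isClosed_range ((pullS i).obj G) x hx
      exact ⟨fun a b _ => (u1.uniq a).trans (u1.uniq b).symm, fun c => ⟨u1.default, (u2.uniq _).trans (u2.uniq c).symm⟩⟩
  exact TopCat.Presheaf.isIso_of_stalkFunctor_map_iso _

theorem essImage_iff (hi : Topology.IsClosedEmbedding i) (G : X.Sheaf (Type u)) :
    (pushS i).essImage G ↔ ∀ x : X, x ∉ Set.range i → Nonempty (Unique (stk G x)) := by
  refine ⟨fun ⟨F, ⟨e⟩⟩ x hx => ?_, fun h => ?_⟩
  · obtain ⟨u1⟩ := unique_stalk_push i hi.isClosed_range F x hx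
    have e' : stk ((pushS i).obj F) x ≃ stk G x :=
      ((TopCat.Presheaf.stalkFunctor (Type u) x).mapIso ((sheafToPresheaf _ _).mapIso e)).toEquiv
    exact ⟨e'.symm.unique⟩
  · have := isIso_unit i hi G h
    exact ⟨_, ⟨(asIso ((adj i).unit.app G)).symm⟩⟩

end Groth.Agent.ShSp
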