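import Groth.Agent.SiteCoh.Germs
import Groth.Agent.SiteCoh.ClosedProduct

/-!
# Abelian sheaves and embeddings
-/

set_option autoImplicit false

universe u

open CategoryTheory CategoryTheory.Limits Opposite TopologicalSpace

namespace Groth.Agent.ShSp.EmbAb

open Groth.Agent.SiteCoh.Pull

variable {Z X : TopCat.{u}} (i : Z ⟶ X)

/-- The adjunction. -/
noncomputable abbrev adj : CohTop.pull i ⊣ CohTop.push i :=
  TopCat.Sheaf.pullbackPushforwardAdjunction AddCommGrpCat.{u} i

lemma counit_unit_app (F : CohTop.Ab Z) (U : Opens X) (t : ((CohTop.push i).obj F).obj.obj (op U)) :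
    ((adj i).counit.app F).hom.app (op ((Opens.map i).obj U)) ((unit i ((CohTop.push i).obj F)).hom.app (op U) t) = t :=
  ConcreteCategory.congr_hom
    (NatTrans.congr_app (congrArg InducedCategory.Hom.hom ((adj i).right_triangle_components F)) (op U)) t

lemma stalk_counit_germMap (F : CohTop.Ab Z) (z : Z) (s : stk ((CohTop.push i).obj F) (i z)) :
    (TopCat.Presheaf.stalkFunctor AddCommGrpCat.{u} z).map ((adj i).counit.app F).hom (germMap i ((CohTop.push i).obj F) z s) =
      TopCat.Presheaf.stalkPushforward AddCommGrpCat.{u} i F.obj z s := by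
  obtain ⟨U, hU, t, rfl⟩ := TopCat.Presheaf.exists_germ_eq ((CohTop.push i).obj F).obj s
  refine (congrArg _ (germMap_germ i ((CohTop.push i).obj F) hU t)).trans ?_
  refine (TopCat.Presheaf.stalkFunctor_map_germ_apply ((Opens.map i).obj U) z hU _ _).trans ?_
  rw [counit_unit_app]
  exact (ConcreteCategory.congr_hom (TopCat.Presheaf.stalkPushforward_germ AddCommGrpCat.{u} i F.obj U z hU) t).symm

/-- The counit is invertible for an inducing map. -/
theorem isIso_counit (hi : Topology.IsInducing i) (F : CohTop.Ab Z) : IsIso ((adj i).counit.app F) := by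
  have : ∀ z : Z, IsIso ((TopCat.Presheaf.stalkFunctor AddCommGrpCat.{u} z).map ((adj i).counit.app F).hom) := fun z => by
    rw [ConcreteCategory.isIso_iff_bijective]
    have h := TopCat.Presheaf.stalkPushforward.stalkPushforward_iso_of_isInducing (C := AddCommGrpCat.{u}) hi F.obj z
    have hb := (ConcreteCategory.isIso_iff_bijective _).1 h
    refine (Function.Bijective.of_comp_iff _ (bijective_germMap i ((CohTop.push i).obj F) z)).1 ?_
    exact (show _ ∘ germMap i ((CohTop.push i).obj F) z = _ from funext (stalk_counit_germMap i F z)) ▸ hb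
  exact TopCat.Presheaf.isIso_of_stalkFunctor_map_iso _

theorem fullyFaithful (hi : Topology.IsInducing i) : (CohTop.push i).Full ∧ (CohTop.push i).Faithful := by
  have := isIso_counit i hi
  have : IsIso (adj i).counit := NatIso.isIso_of_isIso_app _
  exact ⟨(adj i).fullyFaithfulROfIsIsoCounit.full, (adj i).fullyFaithfulROfIsIsoCounit.faithful⟩

/-- The stalk of a pushforward outside a closed image is zero. -/
theorem isZero_stalk_push (hi : IsClosed (Set.range i)) (F : CohTop.Ab Z) (x : X) (hx : x ∉ Set.range i) :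
    IsZero (CohTop.stalk ((CohTop.push i).obj F) x) := by
  refine @AddCommGrpCat.isZero_of_subsingleton _ ⟨fun a b => ?_⟩
  suffices ∀ a : stk ((CohTop.push i).obj F) x, a = 0 from (this a).trans (this b).symm
  intro a
  obtain ⟨U, hU, t, rfl⟩ := TopCat.Presheaf.exists_germ_eq ((CohTop.push i).obj F).obj a
  let V : Opens X := U ⊓ ⟨(Set.range i)ᶜ, hi.isOpen_compl⟩
  have hV : x ∈ V := ⟨hU, hx⟩
  rw [← TopCat.Presheaf.germ_res_apply ((CohTop.push i).obj F).obj (homOfLE (inf_le_left : V ≤ U)) x hV t]
  have : ((CohTop.push i).obj F).obj.map (homOfLE (inf_le_left : V ≤ U)).op t = 0 :=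
    TopCat.Presheaf.section_ext F ((Opens.map i).obj V) _ 0 fun z hz => absurd ⟨z, rfl⟩ hz.2
  rw [this, map_zero]

/-- The unit is invertible on sheaves supported on a closed subspace. -/
theorem isIso_unit (hi : Topology.IsClosedEmbedding i) (G : CohTop.Ab X)
    (hG : ∀ x : X, x ∉ Set.range i → IsZero (CohTop.stalk G x)) : IsIso ((adj i).unit.app G) := by
  have : ∀ x : X, IsIso ((TopCat.Presheaf.stalkFunctor AddCommGrpCat.{u} x).map ((adj i).unit.app G).hom) := fun x => by
    by_cases hx : x ∈ Set.range i
    · obtain ⟨z, rfl⟩ := hx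
      rw [ConcreteCategory.isIso_iff_bijective]
      have h := TopCat.Presheaf.stalkPushforward.stalkPushforward_iso_of_isInducing (C := AddCommGrpCat.{u}) hi.isInducing
        ((CohTop.pull i).obj G).obj z
      refine (Function.Bijective.of_comp_iff' ((ConcreteCategory.isIso_iff_bijective _).1 h) _).1 ?_
      have he : (germMap i G z : stk G (i z) → _) = _ ∘ _ := rfl
      exact he ▸ bijective_germMap i G z
    · exact CategoryTheory.Limits.isIso_of_isTerminal (hG x hx).isTerminal
        (isZero_stalk_push i hi.isClosed_range ((CohTop.pull i).obj G) x hx).isTerminal _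
  exact TopCat.Presheaf.isIso_of_stalkFunctor_map_iso _

theorem essImage_iff (hi : Topology.IsClosedEmbedding i) (G : CohTop.Ab X) :
    (CohTop.push i).essImage G ↔ ∀ x : X, x ∉ Set.range i → IsZero (CohTop.stalk G x) := by
  refine ⟨fun ⟨F, ⟨e⟩⟩ x hx => ?_, fun h => ?_⟩
  · exact (isZero_stalk_push i hi.isClosed_range F x hx).of_iso
      ((TopCat.Presheaf.stalkFunctor AddCommGrpCat.{u} x).mapIso ((sheafToPresheaf _ _).mapIso e)).symm
  · have := isIso_unit i hi G h
    exact ⟨_, ⟨(asIso ((adj i).unit.app G)).symm⟩⟩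

theorem preservesFiniteColimits_push (hi : Topology.IsClosedEmbedding i) :
    PreservesFiniteColimits (CohTop.push i) := by
  have h2 : ∀ S : ShortComplex (CohTop.Ab Z), S.ShortExact → (S.map (CohTop.push i)).ShortExact := fun S hS =>
    Groth.Agent.SiteCoh.Closed.push_map_shortExact' i hi hS
  have h3 : PreservesFiniteLimits (CohTop.push i) ∧ PreservesFiniteColimits (CohTop.push i) :=
    ((Functor.exact_tfae (CohTop.push i)).out 0 3).1 h2
  exact h3.2

end Groth.Agent.ShSp.EmbAb
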