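import Groth.Agent.ShSp.EmbSet
import Mathlib.Topology.Sheaves.Over
import Mathlib.CategoryTheory.Adjunction.Triple

/-!
# Extension by the empty set
-/

set_option autoImplicit false

universe u

open CategoryTheory CategoryTheory.Limits Opposite TopologicalSpace

namespace Groth.Agent.ShSp

open Groth.Agent.Et18.SheafPullSet

variable {X : TopCat.{u}} (U : Opens X)

/-- The inclusion. -/
noncomputable abbrev incl : TopCat.of U ⟶ X := TopCat.ofHom ⟨Subtype.val, continuous_subtype_val⟩

/-- Restriction is left adjoint to direct image. -/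
noncomputable def restrictAdj : U.sheafRestrict (C := Type u) ⊣ pushS (incl U) :=
  haveI H : Topology.IsOpenEmbedding (incl U) := U.isOpenEmbedding
  haveI := H.functor_isContinuous
  haveI : (Opens.map (incl U)).IsContinuous (Opens.grothendieckTopology X) (Opens.grothendieckTopology U) :=
    Functor.isContinuous_of_coverPreserving (compatiblePreserving_opens_map (incl U)) (coverPreserving_opens_map (incl U))
  Adjunction.sheafPushforwardContinuous H.isOpenMap.adjunction _ _ (E := Type u)

variable (L : (TopCat.of U).Sheaf (Type u) ⥤ X.Sheaf (Type u)) (adj' : L ⊣ U.sheafRestrict (C := Type u))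

include adj' in
theorem fullyFaithful_left : L.Full ∧ L.Faithful := by
  let t : Adjunction.Triple L (U.sheafRestrict (C := Type u)) (pushS (incl U)) := ⟨adj', restrictAdj U⟩
  obtain ⟨h1, h2⟩ := fullyFaithful (incl U) Topology.IsInducing.subtypeVal
  have hF : (pushS (incl U)).FullyFaithful := .ofFullyFaithful _
  exact ⟨(t.fullyFaithfulEquiv.symm hF).full, (t.fullyFaithfulEquiv.symm hF).faithful⟩

/-- The sheaf with a unique section over opens contained in `U` and none elsewhere. -/
noncomputable def subterminal : X.Sheaf (Type u) :=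
  ⟨{ obj := fun V => ULift.{u} (PLift (V.unop ≤ U))
     map := fun {V W} a => TypeCat.ofHom fun h => ⟨⟨a.unop.le.trans h.down.down⟩⟩ },
    (TopCat.Presheaf.isSheaf_iff_isSheafUniqueGluing_types _).2 fun ι V sf _ =>
      ⟨⟨⟨iSup_le fun i => (sf i).down.down⟩⟩, fun i => rfl, fun y _ => rfl⟩⟩

lemma isEmpty_stalk_subterminal {x : X} (hx : x ∉ U) : IsEmpty (stk (subterminal U) x) :=
  ⟨fun s => by
    obtain ⟨V, hV, t, -⟩ := TopCat.Presheaf.exists_germ_eq (subterminal U).obj s
    exact hx (t.down.down hV)⟩

include adj' in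
lemma isEmpty_stalk_left (F : (TopCat.of U).Sheaf (Type u)) {x : X} (hx : x ∉ U) : IsEmpty (stk (L.obj F) x) := by
  let φ : F ⟶ (U.sheafRestrict (C := Type u)).obj (subterminal U) :=
    ⟨{ app := fun V => TypeCat.ofHom fun _ => ⟨⟨fun y ⟨z, _, hz⟩ => hz ▸ z.2⟩⟩
       naturality := fun _ _ _ => by ext; rfl }⟩
  have := isEmpty_stalk_subterminal U hx
  exact ⟨fun s => this.false ((TopCat.Presheaf.stalkFunctor (Type u) x).map ((adj'.homEquiv _ _).symm φ).hom s)⟩

lemma le_of_section {G : X.Sheaf (Type u)} (hG : ∀ x : X, x ∉ U → IsEmpty (stk G x)) {V : Opens X}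
    (s : G.obj.obj (op V)) : V ≤ U := fun x hx => by
  by_contra h
  exact (hG x h).false (TopCat.Presheaf.germ G.obj V x hx s)

/-- Maps out of a sheaf supported on `U` are determined by their restriction. -/
lemma bijective_restrict_map {G : X.Sheaf (Type u)} (hG : ∀ x : X, x ∉ U → IsEmpty (stk G x))
    (H : X.Sheaf (Type u)) : Function.Bijective fun φ : G ⟶ H => (U.sheafRestrict (C := Type u)).map φ := by
  let jU : TopCat.of U ⟶ X := incl U
  have hopen : IsOpenMap jU := U.isOpen.isOpenMap_subtype_val
  have hle : ∀ V : Opens X, hopen.functor.obj ((Opens.map jU).obj V) ≤ V := fun V y ⟨z, hz, e⟩ => e ▸ hz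
  have hge : ∀ V : Opens X, V ≤ U → V ≤ hopen.functor.obj ((Opens.map jU).obj V) := fun V h y hy => ⟨⟨y, h hy⟩, hy, rfl⟩
  refine ⟨fun φ ψ h => ?_, fun ψ => ?_⟩
  · apply InducedCategory.hom_ext
    apply NatTrans.ext
    funext V
    ext s
    have hVU := le_of_section U hG (V := V.unop) s
    have h1 := ConcreteCategory.congr_hom
      (NatTrans.congr_app (congrArg InducedCategory.Hom.hom h) (op ((Opens.map jU).obj V.unop)))
      (G.obj.map (homOfLE (hle V.unop)).op s)
    have e : ∀ χ : G ⟶ H, χ.hom.app V s = H.obj.map (homOfLE (hge V.unop hVU)).op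
        (χ.hom.app (op (hopen.functor.obj ((Opens.map jU).obj V.unop))) (G.obj.map (homOfLE (hle V.unop)).op s)) :=
      fun χ => by
        rw [← ConcreteCategory.comp_apply (G.obj.map _), χ.hom.naturality, ConcreteCategory.comp_apply,
          ← ConcreteCategory.comp_apply (H.obj.map _), ← H.obj.map_comp]
        refine (ConcreteCategory.congr_hom (H.obj.map_id V) _).symm.trans ?_
        exact congrArg (fun m => H.obj.map m (χ.hom.app V s)) (Subsingleton.elim _ _)
    show φ.hom.app V s = ψ.hom.app V s
    rw [e φ, e ψ]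
    exact congrArg _ h1
  · let α : ∀ V : (Opens X)ᵒᵖ, G.obj.obj V ⟶ H.obj.obj V := fun V => TypeCat.ofHom fun s =>
      H.obj.map (homOfLE (hge V.unop (le_of_section U hG (V := V.unop) s))).op
        (ψ.hom.app (op ((Opens.map jU).obj V.unop)) (G.obj.map (homOfLE (hle V.unop)).op s))
    refine ⟨⟨{ app := α, naturality := ?_ }⟩, ?_⟩
    · intro V W a
      ext s
      have n := ConcreteCategory.congr_hom (ψ.hom.naturality ((Opens.map jU).map a.unop).op)
        (G.obj.map (homOfLE (hle V.unop)).op s)
      simp only [ConcreteCategory.comp_apply] at n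
      show H.obj.map _ (ψ.hom.app _ (G.obj.map _ (G.obj.map a s))) = H.obj.map a (H.obj.map _ (ψ.hom.app _ _))
      have e1 : G.obj.map (homOfLE (hle W.unop)).op (G.obj.map a s) =
          (((U.sheafRestrict (C := Type u)).obj G).obj.map ((Opens.map jU).map a.unop).op) (G.obj.map (homOfLE (hle V.unop)).op s) := by
        refine ((ConcreteCategory.congr_hom (G.obj.map_comp a (homOfLE (hle W.unop)).op) s).symm).trans ?_
        refine Eq.trans ?_ (ConcreteCategory.congr_hom (G.obj.map_comp (homOfLE (hle V.unop)).op
          (hopen.functor.map ((Opens.map jU).map a.unop)).op) s)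
        exact congrArg (fun m => G.obj.map m s) (Subsingleton.elim _ _)
      rw [e1, n]
      generalize ψ.hom.app _ (G.obj.map (homOfLE (hle V.unop)).op s) = t
      refine ((ConcreteCategory.congr_hom (H.obj.map_comp (hopen.functor.map ((Opens.map jU).map a.unop)).op
          (homOfLE (hge W.unop (le_of_section U hG (G.obj.map a s)))).op) t).symm).trans ?_
      refine Eq.trans ?_ (ConcreteCategory.congr_hom (H.obj.map_comp (homOfLE (hge V.unop (le_of_section U hG (V := V.unop) s))).op a) t)
      exact congrArg (fun m => H.obj.map m t) (Subsingleton.elim _ _)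
    · apply InducedCategory.hom_ext
      apply NatTrans.ext
      funext V
      ext s
      let V' : Opens X := hopen.functor.obj V.unop
      have hV : (Opens.map jU).obj V' = V.unop := Opens.ext (Set.ext fun y =>
        ⟨fun ⟨z, hz, e⟩ => (Subtype.ext e : z = y) ▸ hz, fun hy => ⟨y, hy, rfl⟩⟩)
      show H.obj.map _ (ψ.hom.app _ (G.obj.map _ s)) = ψ.hom.app V s
      have n := ConcreteCategory.congr_hom (ψ.hom.naturality (homOfLE hV.le).op) s
      simp only [ConcreteCategory.comp_apply] at n
      have e1 : G.obj.map (homOfLE (hle V')).op s =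
          ((U.sheafRestrict (C := Type u)).obj G).obj.map (homOfLE hV.le).op s :=
        congrArg (fun m => G.obj.map m s) (Subsingleton.elim _ _)
      refine (congrArg (fun z => H.obj.map _ (ψ.hom.app _ z)) e1).trans ?_
      refine (congrArg _ n).trans ?_
      refine (ConcreteCategory.congr_hom (H.obj.map_comp _ _) _).symm.trans ?_
      exact (congrArg (fun m => H.obj.map m (ψ.hom.app V s)) (Subsingleton.elim _ _)).trans
        (ConcreteCategory.congr_hom (H.obj.map_id _) _)

include adj' in
theorem essImage_left_iff (G : X.Sheaf (Type u)) :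
    L.essImage G ↔ ∀ x : X, x ∉ U → IsEmpty (stk G x) := by
  refine ⟨fun ⟨F, ⟨e⟩⟩ x hx => ?_, fun h => ?_⟩
  · have := isEmpty_stalk_left U L adj' F hx
    exact ⟨fun s => this.false ((TopCat.Presheaf.stalkFunctor (Type u) x).map e.inv.hom s)⟩
  · have : IsIso (adj'.counit.app G) := by
      refine isIso_of_coyoneda_map_bijective _ fun H => ?_
      have h2 : ((adj'.homEquiv ((U.sheafRestrict (C := Type u)).obj G) H) ∘ fun φ : G ⟶ H => adj'.counit.app G ≫ φ) =
          fun φ : G ⟶ H => (U.sheafRestrict (C := Type u)).map φ := funext fun φ => by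
        simp [Adjunction.homEquiv_unit]
      exact (Function.Bijective.of_comp_iff' (Equiv.bijective _) _).1 (h2 ▸ bijective_restrict_map U h H)
    exact ⟨_, ⟨asIso (adj'.counit.app G)⟩⟩

end Groth.Agent.ShSp
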